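import Groth.Agent.Sga3.H784.Conj
import Groth.Agent.Sga3.H219.NeutralK
import Groth.Agent.Sga3.H665.ActNeutral
import Groth.Agent.Sga3B.RG.BcPt885
import Groth.Agent.Sga3B.BcSpec892

/-!
# The unipotent radical is transitive on the maximal tori of a solvable group

Piece (G3) of S4134.
-/

set_option autoImplicit false

universe u

open CategoryTheory CategoryTheory.Limits MonoidalCategory CartesianMonoidalCategory MonObj GrpObj
  AlgebraicGeometry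
open TensorProduct WithConv
open Groth.Agent.Books.AffBridge Groth.Agent.Books.AffBridge2 Groth.Agent.Books.AlgPts

namespace Groth.Agent.Sga3.H511.Trans

open Sga3B.RG Sga3B.RG.BrPts Groth.Agent.Sga3.H784.Conj Groth.Agent.Sga3.H784.Commute
  Groth.Agent.Sga3.H665.Act

section absolute

variable {K : Type u} [Field K] [IsAlgClosed K] {A : Type u} [CommRing A] [HopfAlgebra K A]
  [Algebra.FiniteType K A]

/-- Conjugacy of maximal tori by elements of a subset `P` with `P · M₁ = G`. -/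
theorem exists_conj_pred {M₁ M₂ : Subgroup (Pt K A)} (h₁ : IsMaxTorusSub M₁)
    (h₂ : IsMaxTorusSub M₂) (P : Pt K A → Prop)
    (hP : ∀ x : Pt K A, ∃ u m, m ∈ M₁ ∧ x = u * m ∧ P u) :
    ∃ a, P a ∧ ∀ y ∈ M₁, a * y * a⁻¹ ∈ M₂ := by
  have htop : IsCl ((⊤ : Subgroup (Pt K A)) : Set (Pt K A)) := fun _ _ => trivial
  obtain ⟨a, -, ha⟩ := ConjTori.exists_conj_of_le_closed htop h₁.1 le_top
    (fun S hS _ hle => h₁.2 S hS hle) h₂.1 le_top (fun S hS _ hle => h₂.2 S hS hle)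
  obtain ⟨u, m, hm, rfl, hu⟩ := hP a
  refine ⟨u, hu, fun y hy => ?_⟩
  rw [← ha]
  refine ⟨m⁻¹ * y * m, M₁.mul_mem (M₁.mul_mem (M₁.inv_mem hm) hy) hm, ?_⟩
  change (u * m) * (m⁻¹ * y * m) * (u * m)⁻¹ = u * y * u⁻¹
  group

/-- Maximal tori which are conjugate modulo a central subgroup are conjugate. -/
theorem exists_iso_of_conj {U G T₁ T₂ : Over (Spec (CommRingCat.of K))} [GrpObj U] [GrpObj G]
    [GrpObj T₁] [GrpObj T₂] (u : U ⟶ G) [IsMonHom u] (q : U ⟶ SpecOver K A) [IsMonHom q]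
    (hcen : ∀ z g : 𝟙_ (Over (Spec (CommRingCat.of K))) ⟶ U, z ≫ q = 1 → z * g = g * z)
    (j₁ : T₁ ⟶ U) [IsMonHom j₁] (j₂ : T₂ ⟶ U) [IsMonHom j₂]
    (h₁ : Red.IsMaximalTorus (j₁ ≫ u)) (h₂ : Red.IsMaximalTorus (j₂ ≫ u))
    (g : 𝟙_ (Over (Spec (CommRingCat.of K))) ⟶ U) {M₂ : Subgroup (Pt K A)}
    (hM₂ : IsMaxTorusSub M₂)
    (hP₂ : ∀ t : 𝟙_ (Over (Spec (CommRingCat.of K))) ⟶ T₂,
      (ptEquiv K A).symm (t ≫ j₂ ≫ q) ∈ M₂)
    (hP₁ : ∀ t : 𝟙_ (Over (Spec (CommRingCat.of K))) ⟶ T₁, (ptEquiv K A).symm (g ≫ q) *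
      (ptEquiv K A).symm (t ≫ j₁ ≫ q) * ((ptEquiv K A).symm (g ≫ q))⁻¹ ∈ M₂) :
    ∃ φ : T₁ ≅ T₂, (j₁ ≫ u) ≫ (conjIso (g ≫ u)).hom = φ.hom ≫ j₂ ≫ u := by
  have hT₁ := h₁.2.2.1
  have hT₂ := h₂.2.2.1
  have hc : ∀ (t : 𝟙_ (Over (Spec (CommRingCat.of K))) ⟶ T₁)
      (r : 𝟙_ (Over (Spec (CommRingCat.of K))) ⟶ T₂),
      (t ≫ (j₁ ≫ (conjIso g).hom) ≫ q) * (r ≫ j₂ ≫ q) =
        (r ≫ j₂ ≫ q) * (t ≫ (j₁ ≫ (conjIso g).hom) ≫ q) := by
    intro t r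
    have h3 : (ptEquiv K A).symm (t ≫ (j₁ ≫ (conjIso g).hom) ≫ q) ∈ M₂ := by
      have h6 := hP₁ t
      have h7 : (ptEquiv K A).symm (t ≫ (j₁ ≫ (conjIso g).hom) ≫ q) =
          (ptEquiv K A).symm (g ≫ q) * (ptEquiv K A).symm (t ≫ j₁ ≫ q) *
            ((ptEquiv K A).symm (g ≫ q))⁻¹ := by
        apply (ptEquiv K A).injective
        rw [map_mul, map_mul, map_inv, MulEquiv.apply_symm_apply, MulEquiv.apply_symm_apply,
          MulEquiv.apply_symm_apply, conjIso_hom_comp, ← Category.assoc, comp_conjIso_hom]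
        rw [toUnit_unique (toUnit (𝟙_ (Over (Spec (CommRingCat.of K))))) (𝟙 _), Category.id_comp]
      rw [h7]
      exact h6
    have h4 := mul_comm_of_mem hM₂ h3 (hP₂ r)
    have h5 := congrArg (ptEquiv K A) h4
    rwa [map_mul, map_mul, MulEquiv.apply_symm_apply, MulEquiv.apply_symm_apply] at h5
  have hcc : ∀ (t : 𝟙_ (Over (Spec (CommRingCat.of K))) ⟶ T₁)
      (r : 𝟙_ (Over (Spec (CommRingCat.of K))) ⟶ T₂),
      (t ≫ (j₁ ≫ (conjIso g).hom)) * (r ≫ j₂) = (r ≫ j₂) * (t ≫ (j₁ ≫ (conjIso g).hom)) :=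
    fun t r => commute_of_central q hcen _ _ hT₁ hT₂ hc t r
  have h₁' := isMaximalTorus_conj (j₁ ≫ u) h₁ (g ≫ u)
  have e : (j₁ ≫ u) ≫ (conjIso (g ≫ u)).hom = (j₁ ≫ (conjIso g).hom) ≫ u :=
    (conjIso_hom_comp g u j₁).symm
  obtain ⟨φ, hφ⟩ := exists_iso_of_commute ((j₁ ≫ u) ≫ (conjIso (g ≫ u)).hom) (j₂ ≫ u) h₁' h₂
    (fun t r => by
      rw [e, ← Category.assoc t, ← Category.assoc r, ← MonObj.mul_comp, ← MonObj.mul_comp, hcc t r])
  exact ⟨φ, hφ.symm⟩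

end absolute

section torus

open Groth.Agent.RedSub.H647 Groth.Agent.Sga3B.MT

variable {S : Scheme.{u}} {G : Over S} [GrpObj G] {𝒯 : Over S} {Tu : Over 𝒯.left} [GrpObj Tu]
  {iu : Tu ⟶ Red.bc 𝒯.hom G}

/-- The maximal torus of a point of `𝒯`. -/
theorem exists_torus (h𝒯 : SGA3x.RepresentsMaxTori G 𝒯 Tu iu) (hbc : TorBc G) {P : Scheme.{u}}
    (f : P ⟶ S) (v : Over.mk f ⟶ 𝒯) : ∃ (T : Over P) (_ : GrpObj T) (i : T ⟶ Red.bc f G),
      Red.IsMaximalTorus i ∧ ∀ (X : Scheme.{u}) (y : X ⟶ P) (c : X ⟶ G.left),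
        SubPt.Pt i y c ↔ SubPt.Pt iu (y ≫ v.left) c := by
  have key : ∀ (f' : P ⟶ S) (_ : v.left ≫ 𝒯.hom = f'), ∃ (T : Over P) (_ : GrpObj T)
      (i : T ⟶ Red.bc f' G), Red.IsMaximalTorus i ∧
        ∀ (X : Scheme.{u}) (y : X ⟶ P) (c : X ⟶ G.left), SubPt.Pt i y c ↔ SubPt.Pt iu (y ≫ v.left) c := by
    rintro _ rfl
    exact ⟨Red.bc v.left Tu, inferInstance, bcSub v.left iu,
      H665.Act.isMaximalTorus_bcSub hbc v.left h𝒯.1, fun X y c => SubPt.pt_bcSub v.left iu y c⟩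
  exact key f (Over.w v)

/-- Conjugate tori correspond to each other under the action. -/
theorem act_eq_of_conj (h𝒯 : SGA3x.RepresentsMaxTori G 𝒯 Tu iu) (hbc : TorBc G)
    {r : 𝒯 ⊗ G ⟶ 𝒯} (hr : IsAct iu r) {P : Scheme.{u}} {f : P ⟶ S} (v w : Over.mk f ⟶ 𝒯)
    {T₁ T₂ : Over P} (i₁ : T₁ ⟶ Red.bc f G) (i₂ : T₂ ⟶ Red.bc f G)
    (h₁ : ∀ (X : Scheme.{u}) (y : X ⟶ P) (c : X ⟶ G.left), SubPt.Pt i₁ y c ↔ SubPt.Pt iu (y ≫ w.left) c)
    (h₂ : ∀ (X : Scheme.{u}) (y : X ⟶ P) (c : X ⟶ G.left), SubPt.Pt i₂ y c ↔ SubPt.Pt iu (y ≫ v.left) c)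
    (g : Over.mk f ⟶ G) (φ : T₁ ≅ T₂) (hφ : i₁ ≫ cj g = φ.hom ≫ i₂) :
    CartesianMonoidalCategory.lift v g ≫ r = w := by
  refine ext_of_inTorus h𝒯 hbc _ _ fun Y p x => ?_
  rw [← Category.assoc, comp_lift, hr.inTorus_iff]
  have e1 : InTorus iu (p ≫ v) ((p ≫ g) * x * (p ≫ g)⁻¹) ↔
      MemAt i₂ p ((p ≫ g) * x * (p ≫ g)⁻¹) := by
    rw [SubPt.memAt_iff_pt, h₂]
    rfl
  have e2 : InTorus iu (p ≫ w) x ↔ MemAt i₁ p x := by
    rw [SubPt.memAt_iff_pt, h₁]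
    rfl
  have e3 : ∀ z : Y ⟶ G, MemAt i₂ p z ↔ MemAt (i₁ ≫ cj g) p z := by
    intro z
    rw [hφ, memAt_iff, memAt_iff]
    constructor
    · rintro ⟨x, hx⟩
      exact ⟨x ≫ φ.inv, by rw [Category.assoc, Iso.inv_hom_id_assoc, hx]⟩
    · rintro ⟨x, hx⟩
      exact ⟨x ≫ φ.hom, by rw [Category.assoc, hx]⟩
  rw [e1, e2, e3, memAt_comp_cj]
  have e4 : (p ≫ g)⁻¹ * ((p ≫ g) * x * (p ≫ g)⁻¹) * (p ≫ g) = x := by group
  rw [e4]

end torus

section dict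

open Groth.Agent.Sga3B.MT Groth.Agent.Sga3B.BcPts Groth.Agent.Sga3B.BcSpec892

variable {k K : Type u} [Field k] [Field K] [Algebra k K]

variable (k K) in
/-- the base change morphism -/
noncomputable abbrev bm : Spec (CommRingCat.of K) ⟶ Spec (CommRingCat.of k) :=
  Spec.map (CommRingCat.ofHom (algebraMap k K))

/-- A `K`-point as a rational point of the base change. -/
noncomputable def ups {G : Over (Spec (CommRingCat.of k))} (y : SpecOver k K ⟶ G) :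
    𝟙_ (Over (Spec (CommRingCat.of K))) ⟶ Red.bc (bm k K) G :=
  toE (bm k K) _ ≫ bcPt (𝟙 (Over.mk (bm k K))) y

lemma toUnit_ups {G : Over (Spec (CommRingCat.of k))} (y : SpecOver k K ⟶ G)
    (X : Over (Spec (CommRingCat.of K))) :
    toUnit X ≫ ups y = toE (bm k K) X ≫ bcPt (𝟙 (Over.mk (bm k K))) y := by
  rw [ups, ← Category.assoc, comp_toE]

lemma ups_comp {U G : Over (Spec (CommRingCat.of k))} (y : SpecOver k K ⟶ U) (u : U ⟶ G) :
    ups y ≫ (Over.pullback (bm k K)).map u = ups (y ≫ u) := by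
  rw [ups, ups, Category.assoc]
  congr 1
  rw [bcPt, bcPt, ← bcEquiv_comp, Category.assoc]
  rfl

lemma comp_conjIso_eq_cj {G : Over (Spec (CommRingCat.of k))} [GrpObj G] (y : SpecOver k K ⟶ G) :
    (conjIso (ups y)).hom = cj (f := bm k K) y := by
  have h1 := comp_conjIso_hom (ups y) (𝟙 _)
  have h2 := comp_cj (f := bm k K) y (𝟙 _)
  rw [Category.id_comp] at h1 h2
  rw [h1, h2, toUnit_ups]

lemma ups_left {G : Over (Spec (CommRingCat.of k))} (y : SpecOver k K ⟶ G) :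
    (ups y).left ≫ pullback.fst G.hom (bm k K) = y.left := by
  rw [ups, Over.comp_left, Category.assoc, bcPt_left_fst]
  exact Category.id_comp _

lemma hom_ext_fst {S P : Scheme.{u}} {f : P ⟶ S} {X : Over P} {G : Over S} {a b : X ⟶ Red.bc f G}
    (h : a.left ≫ pullback.fst G.hom f = b.left ≫ pullback.fst G.hom f) : a = b := by
  apply Over.OverMorphism.ext
  apply pullback.hom_ext
  · exact h
  · exact (Over.w a).trans (Over.w b).symm

omit [Field k] in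
lemma unitIso_hom_left {K : Type u} [CommRing K] : (unitIso K).hom.left = 𝟙 (Spec (CommRingCat.of K)) := by
  have h1 : (unitIso K).hom.left ≫ (SpecOver K K).hom = 𝟙 _ := Over.w (unitIso K).hom
  have h2 : (SpecOver K K).hom = 𝟙 (Spec (CommRingCat.of K)) := by
    change Spec.map (CommRingCat.ofHom (algebraMap K K)) = _
    rw [Algebra.algebraMap_self]
    exact Spec.map_id _
  rw [h2] at h1
  exact (Category.comp_id _).symm.trans h1

/-- compatibility of the two dictionaries -/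
lemma ups_specMap {C : Type u} [CommRing C] [HopfAlgebra k C] (g : WithConv (C →ₐ[k] K)) :
    ups (specMap k g.ofConv) = ptEquiv K (K ⊗[k] C) (BcPt.ptL g) ≫ toBc k K C := by
  apply hom_ext_fst
  rw [ups_left, ptEquiv_apply, Category.assoc]
  have h1 : specMap K (BcPt.ptL g).ofConv ≫ toBc k K C = _ :=
    comp_toBc (R := k) (L := K) (C := C) (A := K) (BcPt.ptL g).ofConv
  have h2 : res (toConv (BcPt.ptL g).ofConv) = g := BcPt.ptL.symm_apply_apply g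
  rw [h1, h2]
  have h3 : ((unitIso K).hom ≫ (Sga3B.PtMor.baseStr (C := C) K (Iso.refl (Sga3B.AffTest.sp k C))).e K g).left =
    ((Sga3B.PtMor.baseStr (C := C) K (Iso.refl (Sga3B.AffTest.sp k C))).e K g).left := by
    rw [Over.comp_left, unitIso_hom_left]
    exact Category.id_comp _
  rw [h3]
  have h4 : (Sga3B.PtMor.baseStr (C := C) K (Iso.refl (Sga3B.AffTest.sp k C))).e K g =
    Sga3B.DSPts.bcEquiv (bm k K) _ _ ((Sga3B.PtData.mapIso (L := k) (L' := K) K).hom ≫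
      specMap k g.ofConv ≫ 𝟙 _) := rfl
  rw [h4]
  have h5 := Sga3B.DSPts.bcEquiv_fst (bm k K) (Sga3B.AffTest.sp K K) (SpecOver k C)
    ((Sga3B.PtData.mapIso (L := k) (L' := K) K).hom ≫ specMap k g.ofConv ≫ 𝟙 _)
  refine Eq.trans ?_ h5.symm
  rw [Category.comp_id, Over.comp_left]
  exact (Category.id_comp _).symm

end dict

section main

open Groth.Agent.RedSub.H647 Groth.Agent.Sga3B.MT Groth.Agent.Sga3B.BcPts
  Groth.Agent.Sga3B.BcSpec892 Groth.Agent.Sga3.H665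

/-- **(G3)** The unipotent radical of `G⁰/Z` is transitive on the `K`-points of the scheme of maximal tori. -/
theorem exists_act_eq {k : Type u} [Field k] (K : Type u) [Field K] [IsAlgClosed K] [Algebra k K]
    {G : Over (Spec (CommRingCat.of k))} [GrpObj G] {𝒯 : Over (Spec (CommRingCat.of k))}
    {Tu : Over 𝒯.left} [GrpObj Tu] {iu : Tu ⟶ Red.bc 𝒯.hom G}
    (h𝒯 : SGA3x.RepresentsMaxTori G 𝒯 Tu iu) (hbc : TorBc G) {r : 𝒯 ⊗ G ⟶ 𝒯} (hr : IsAct iu r)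
    {U : Over (Spec (CommRingCat.of k))} [GrpObj U] (u : U ⟶ G) [IsMonHom u]
    [IsClosedImmersion u.left] [IsOpenImmersion u.left] [LocallyOfFiniteType U.hom]
    (hur : connectedComponent (pt η[G]) ⊆ Set.range u.left) {C : Type u} [CommRing C]
    [HopfAlgebra k C] [Algebra.FiniteType k C] (q : U ⟶ SpecOver k C) [IsMonHom q]
    [Surjective q.left]
    (hcen : ∀ (X : Over (Spec (CommRingCat.of k))) (z g : X ⟶ U), z ≫ q = 1 → z * g = g * z)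
    {r' : 𝒯 ⊗ SpecOver k C ⟶ 𝒯} (hr' : (𝒯 ◁ q) ≫ r' = (𝒯 ◁ u) ≫ r)
    {H : Type u} [CommRing H] [HopfAlgebra k H] (π : C →ₐc[k] H) (hπ : Function.Surjective π)
    (hM : ∀ M : Subgroup (Pt K (K ⊗[k] C)), IsMaxTorusSub M →
      ∀ x, ∃ u m, m ∈ M ∧ x = u * m ∧ ∀ c ∈ RingHom.ker π, u (1 ⊗ₜ c) = 0)
    (v w : SpecOver k K ⟶ 𝒯) :
    ∃ x : SpecOver k K ⟶ SpecOver k H,
      CartesianMonoidalCategory.lift v x ≫ (𝒯 ◁ specMap k (π : C →ₐ[k] H)) ≫ r' = w := by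
  let f : Spec (CommRingCat.of K) ⟶ Spec (CommRingCat.of k) := bm k K
  obtain ⟨T₁, _, i₁, hi₁, hp₁⟩ := exists_torus h𝒯 hbc f w
  obtain ⟨T₂, _, i₂, hi₂, hp₂⟩ := exists_torus h𝒯 hbc f v
  have hmu : Mono u := Books.AlgPtsGrp.mono_of_isClosedImmersion u
  let uK : Red.bc f U ⟶ Red.bc f G := (Over.pullback f).map u
  have huK : IsMonHom uK := inferInstanceAs (IsMonHom ((Over.pullback f).map u))
  have hmK : Mono uK := inferInstanceAs (Mono ((Over.pullback f).map u))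
  have key : ∀ (z : SpecOver k K ⟶ 𝒯) {T : Over (Spec (CommRingCat.of K))} [GrpObj T]
      (i : T ⟶ Red.bc f G), Red.IsMaximalTorus i →
      (∀ (X : Scheme.{u}) (y : X ⟶ Spec (CommRingCat.of K)) (c : X ⟶ G.left),
        SubPt.Pt i y c ↔ SubPt.Pt iu (y ≫ z.left) c) → ∃ j : T ⟶ Red.bc f U, IsMonHom j ∧ j ≫ uK = i := by
    intro z T _ i hi hp
    have hi1 := hi.1
    let z' : (Over.map f).obj T ⟶ 𝒯 := Over.homMk (T.hom ≫ z.left)
      ((Category.assoc _ _ _).trans (congrArg (T.hom ≫ ·) (Over.w z)))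
    let g : (Over.map f).obj T ⟶ G := (bcEquiv f T G).symm i
    have hg : InTorus iu z' g := by
      rw [inTorus_iff_pt]
      have e : g.left = i.left ≫ pullback.fst G.hom f := ActNeutral.bcEquiv_symm_left f i
      rw [e]
      exact (hp _ _ _).1 (SubPt.pt_self i)
    obtain ⟨g', hg'⟩ := ActNeutral.exists_lift_of_connectedComponent h𝒯 u hur _ z' g hg
    have e1 : bcEquiv f T U g' ≫ uK = i := by
      change bcEquiv f T U g' ≫ (Over.pullback f).map u = i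
      rw [← bcEquiv_comp, hg']
      exact Equiv.apply_symm_apply _ _
    refine ⟨bcEquiv f T U g', ?_, e1⟩
    rw [← e1] at hi1
    exact Sga3C.SubGrp.isMonHom_of_comp_mono _ uK
  obtain ⟨j₁, hj₁, rfl⟩ := key w i₁ hi₁ hp₁
  obtain ⟨j₂, hj₂, rfl⟩ := key v i₂ hi₂ hp₂
  let θ : Red.bc f (SpecOver k C) ⟶ SpecOver K (K ⊗[k] C) := inv (toBc k K C)
  have hθ : IsMonHom θ := inferInstanceAs (IsMonHom (asIso (toBc k K C)).inv)
  have hθm : Mono θ := inferInstance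
  let qK : Red.bc f U ⟶ SpecOver K (K ⊗[k] C) := (Over.pullback f).map q ≫ θ
  have hqK : IsMonHom qK := inferInstanceAs (IsMonHom ((Over.pullback f).map q ≫ θ))
  have hcenK : ∀ z g : 𝟙_ (Over (Spec (CommRingCat.of K))) ⟶ Red.bc f U,
      z ≫ qK = 1 → z * g = g * z := by
    intro z g hz
    have h1 : z ≫ (Over.pullback f).map q = 1 := by
      rw [← cancel_mono θ, Category.assoc, MonObj.one_comp]
      exact hz
    have h2 : (bcEquiv f _ U).symm z ≫ q = 1 := by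
      rw [← bcEquiv_symm_comp, h1, Equiv.symm_apply_eq, bcEquiv_one]
    have h3 := hcen _ _ ((bcEquiv f _ U).symm g) h2
    have h4 := congrArg (bcEquiv f _ U) h3
    rwa [bcEquiv_mul, bcEquiv_mul, Equiv.apply_symm_apply, Equiv.apply_symm_apply] at h4
  have hft : Algebra.FiniteType K (K ⊗[k] C) := inferInstance
  obtain ⟨M₁, hM₁, hP₁⟩ := exists_max_above hi₁.2.2.1 (j₁ ≫ qK)
  obtain ⟨M₂, hM₂, hP₂⟩ := exists_max_above hi₂.2.2.1 (j₂ ≫ qK)
  obtain ⟨a, ha, haM⟩ := exists_conj_pred hM₁ hM₂ (fun a => ∀ c ∈ RingHom.ker π, a (1 ⊗ₜ c) = 0)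
    (hM M₁ hM₁)
  let a₀ : WithConv (C →ₐ[k] K) := (BcPt.ptL (K := k) (L := K) (A := C)).symm a
  have ha₀ : ∀ c ∈ RingHom.ker π, a₀.ofConv c = 0 := fun c hc => ha c hc
  obtain ⟨x₀, hx₀⟩ := H219.NeutralK.exists_point_lift K (Iso.refl _) q
    (specMap k a₀.ofConv : SpecOver k K ⟶ SpecOver k C)
  have hg : (ptEquiv K (K ⊗[k] C)).symm (ups x₀ ≫ qK) = a := by
    rw [MulEquiv.symm_apply_eq]
    change ups x₀ ≫ (Over.pullback f).map q ≫ θ = _
    rw [← Category.assoc, ups_comp, hx₀, ups_specMap, Category.assoc]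
    simp only [θ, a₀, IsIso.hom_inv_id, Category.comp_id, MulEquiv.apply_symm_apply]
  obtain ⟨φ, hφ⟩ := exists_iso_of_conj uK qK hcenK j₁ j₂ hi₁ hi₂ (ups x₀) hM₂ (fun t => hP₂ t)
    (fun t => by rw [hg]; exact haM _ (hP₁ t))
  have hgu : ups x₀ ≫ uK = ups (x₀ ≫ u) := ups_comp x₀ u
  rw [hgu, comp_conjIso_eq_cj] at hφ
  have hact := act_eq_of_conj h𝒯 hbc hr v w _ _ hp₁ hp₂ (x₀ ≫ u) φ hφ
  obtain ⟨b, hb⟩ : ∃ b : H →ₐ[k] K, b.comp (π : C →ₐ[k] H) = a₀.ofConv := by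
    refine ⟨AlgHom.liftOfSurjective (π : C →ₐ[k] H) hπ a₀.ofConv ha₀, AlgHom.ext fun c => ?_⟩
    exact AlgHom.liftOfSurjective_apply (π : C →ₐ[k] H) hπ a₀.ofConv ha₀ c
  refine ⟨specMap k b, ?_⟩
  rw [← Category.assoc, lift_whiskerLeft, ← specMap_comp, hb, ← hx₀, ← lift_whiskerLeft,
    Category.assoc, hr', ← Category.assoc, lift_whiskerLeft]
  exact hact

end main

end Groth.Agent.Sga3.H511.Trans
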